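import Cfsg.Agent.Omega.KM.Final
import Cfsg.Agent.Omega.KM.Bridge
import Mathlib
import Cfsg.Agent.Mrg.Omega.NO3S.SLTwo.Tor

section


/-!
# K-fact (KM), unconditional

`km` : an irreducible nontrivial `F_2 SL(2,F)`-module `V` of order at most `|F|^4`, `|F| = 2^m`, additively written;
`km_mul` : the same for an elementary abelian 2-group on which a group `G` with `G ≃* SL(2,F)` acts.
-/

set_option autoImplicit false

namespace Cfsg.Agent.Omega.KM

open Matrix Finset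

universe u v w

variable {F : Type u} [Field F] {V : Type v} [AddCommGroup V]

/-- **(KM)**, see `list`. -/
theorem km [Fintype F] [Finite V] [CharP F 2] {m : ℕ} (hF : Fintype.card F = 2 ^ m) (h2 : ∀ x : V, x + x = 0)
    {ρ : SpecialLinearGroup (Fin 2) F →* AddMonoid.End V} (hρ : IsIrr ρ) (hnt : ∃ g x, ρ g x ≠ x)
    (hc : Nat.card V ≤ Fintype.card F ^ 4) :
    (∃ n d : ℕ, n < 4 ∧ 0 < d ∧ m = d * (n + 1) ∧ Nat.card V = 2 ^ (d * 2 ^ (n + 1)) ∧
      ∃ ψ : V ≃+ TM F (finRotate (n + 1)) d, ∀ g x,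
        ((ψ (ρ g x) : TM F (finRotate (n + 1)) d) : (Fin (n + 1) → Fin 2) → F) = tact (fun a => d * a) g (ψ x)) ∨
    (∃ j : ℕ, 0 < j ∧ j < m ∧ Nat.card V = Fintype.card F ^ 4 ∧
      ∃ ψ : V ≃+ ((Fin 2 → Fin 2) → F), ∀ g x, ψ (ρ g x) = tact ![0, j] g (ψ x)) := by
  have hSt : Stein.{u, max u v} F m := by
    intro M _ _ _ _ ρ' hirr
    exact stein hF ρ' hirr
  exact list hF hSt h2 hρ hnt hc

end Cfsg.Agent.Omega.KM

end

section


/-!
# K-fact (KM), explicit: order less than `|F|^4`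

`km_lt` : an irreducible nontrivial `F_2 SL(2,F)`-module `V` of order less than `|F|^4`, `|F| = 2^m`, is

* natural: `V ≃+ F²`, `g` acts as `g *ᵥ`;
* `m = 2 d`, `V ≃+ Herm F d = {H | H a b = (H b a)^(2^d)}`, `g` acts as `H ↦ g H (g^σ)ᵀ`, `σ = (·)^(2^d)`, order `2^(4 d)`;
* `m = 3 d`, `V ≃+ Trip F d = {t | t a b c = (t b c a)^(2^d)}`, `g` acts as `g ⊗ g^σ ⊗ g^(σ²)`, order `2^(8 d)`.
-/

set_option autoImplicit false

namespace Cfsg.Agent.Omega.KM

open Matrix Finset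

universe u v w

variable {F : Type u} [Field F] {V : Type v} [AddCommGroup V]

/-- the Hermitian matrices for `σ = (·)^(2^d)` -/
def Herm (F : Type u) [Field F] [CharP F 2] (d : ℕ) : AddSubgroup (Matrix (Fin 2) (Fin 2) F) where
  carrier := {H | ∀ a b, H a b = H b a ^ 2 ^ d}
  add_mem' := fun {x y} hx hy a b => by
    change x a b + y a b = (x b a + y b a) ^ 2 ^ d
    rw [add_pow_char_pow, ← hx, ← hy]
  zero_mem' := fun a b => by
    change (0 : F) = 0 ^ 2 ^ d
    rw [zero_pow (by positivity)]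
  neg_mem' := fun {x} hx a b => by
    change - x a b = (- x b a) ^ 2 ^ d
    rw [CharTwo.neg_eq, CharTwo.neg_eq]
    exact hx a b

theorem mem_Herm [CharP F 2] {d : ℕ} {H : Matrix (Fin 2) (Fin 2) F} :
    H ∈ Herm F d ↔ ∀ a b, H a b = H b a ^ 2 ^ d := Iff.rfl

/-- the cyclic tensors of degree 3 for `σ = (·)^(2^d)` -/
def Trip (F : Type u) [Field F] [CharP F 2] (d : ℕ) : AddSubgroup (Fin 2 → Fin 2 → Fin 2 → F) where
  carrier := {t | ∀ a b c, t a b c = t b c a ^ 2 ^ d}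
  add_mem' := fun {x y} hx hy a b c => by
    change x a b c + y a b c = (x b c a + y b c a) ^ 2 ^ d
    rw [add_pow_char_pow, ← hx, ← hy]
  zero_mem' := fun a b c => by
    change (0 : F) = 0 ^ 2 ^ d
    rw [zero_pow (by positivity)]
  neg_mem' := fun {x} hx a b c => by
    change - x a b c = (- x b c a) ^ 2 ^ d
    rw [CharTwo.neg_eq, CharTwo.neg_eq]
    exact hx a b c

theorem mem_Trip [CharP F 2] {d : ℕ} {t : Fin 2 → Fin 2 → Fin 2 → F} :
    t ∈ Trip F d ↔ ∀ a b c, t a b c = t b c a ^ 2 ^ d := Iff.rfl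

theorem rot2 (a b : Fin 2) : (![a, b] : Fin 2 → Fin 2) ∘ finRotate 2 = ![b, a] := by
  funext i
  fin_cases i <;> rfl

theorem rot3 (a b c : Fin 2) : (![a, b, c] : Fin 3 → Fin 2) ∘ finRotate 3 = ![b, c, a] := by
  funext i
  fin_cases i <;> rfl

theorem eta2 (ε : Fin 2 → Fin 2) : ![ε 0, ε 1] = ε := by
  funext i
  fin_cases i <;> rfl

theorem eta3 (ε : Fin 3 → Fin 2) : ![ε 0, ε 1, ε 2] = ε := by
  funext i
  fin_cases i <;> rfl

theorem sum2 {M : Type*} [AddCommMonoid M] (f : (Fin 2 → Fin 2) → M) : ∑ ε, f ε = ∑ a, ∑ b, f ![a, b] := by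
  rw [← Finset.sum_product']
  refine (Finset.sum_bij' (fun p _ => ![p.1, p.2]) (fun ε _ => (ε 0, ε 1)) ?_ ?_ ?_ ?_ ?_).symm
  · simp
  · simp
  · intro p _; rfl
  · intro ε _; exact eta2 ε
  · intro p _; rfl

theorem sum3 {M : Type*} [AddCommMonoid M] (f : (Fin 3 → Fin 2) → M) :
    ∑ ε, f ε = ∑ a, ∑ b, ∑ c, f ![a, b, c] := by
  have h1 : ∀ a : Fin 2, ∑ b, ∑ c, f ![a, b, c] = ∑ p : Fin 2 × Fin 2, f ![a, p.1, p.2] := fun a =>
    (Fintype.sum_prod_type fun p : Fin 2 × Fin 2 => f ![a, p.1, p.2]).symm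
  rw [Finset.sum_congr rfl fun a _ => h1 a, ← Finset.sum_product']
  refine (Finset.sum_bij' (fun p _ => ![p.1, p.2.1, p.2.2]) (fun ε _ => (ε 0, (ε 1, ε 2))) ?_ ?_ ?_ ?_ ?_).symm
  · simp
  · simp
  · intro p _; rfl
  · intro ε _; exact eta3 ε
  · intro p _; rfl

/-- **(KM)**, explicit form for `|V| < |F|^4`. -/
theorem km_lt [Fintype F] [Finite V] [CharP F 2] {m : ℕ} (hF : Fintype.card F = 2 ^ m) (h2 : ∀ x : V, x + x = 0)
    {ρ : SpecialLinearGroup (Fin 2) F →* AddMonoid.End V} (hρ : IsIrr ρ) (hnt : ∃ g x, ρ g x ≠ x)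
    (hc : Nat.card V < Fintype.card F ^ 4) :
    (∃ e : V ≃+ (Fin 2 → F), ∀ g x, e (ρ g x) = g.1 *ᵥ e x) ∨
    (∃ d, 0 < d ∧ m = 2 * d ∧ Nat.card V = 2 ^ (4 * d) ∧
      ∃ e : V ≃+ Herm F d, ∀ g x, ((e (ρ g x) : Herm F d) : Matrix (Fin 2) (Fin 2) F) =
        g.1 * (e x : Matrix (Fin 2) (Fin 2) F) * (g.1.map (· ^ 2 ^ d))ᵀ) ∨
    (∃ d, 0 < d ∧ m = 3 * d ∧ Nat.card V = 2 ^ (8 * d) ∧
      ∃ e : V ≃+ Trip F d, ∀ g x a b c, ((e (ρ g x) : Trip F d) : Fin 2 → Fin 2 → Fin 2 → F) a b c =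
        ∑ a', ∑ b', ∑ c', g.1 a a' * g.1 b b' ^ 2 ^ d * g.1 c c' ^ 2 ^ (2 * d) *
          (e x : Fin 2 → Fin 2 → Fin 2 → F) a' b' c') := by
  rcases km hF h2 hρ hnt hc.le with ⟨n, d, hn, hd, hm, hcard, ψ, hψ⟩ | ⟨j, _, _, hcard, _⟩
  swap
  · omega
  have hn3 : n < 3 := by
    by_contra h
    have hn' : n = 3 := by omega
    subst hn'
    rw [hcard, hF, ← pow_mul] at hc
    have := (Nat.pow_lt_pow_iff_right (by norm_num : 1 < 2)).1 hc
    omega
  interval_cases n
  · left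
    have hmd : m = d := by omega
    let θ : TM F (finRotate (0 + 1)) d ≃+ (Fin 2 → F) :=
      { toFun := fun t a => t.1 fun _ => a
        invFun := fun s => ⟨fun ε => s (ε 0), fun ε => by
          rw [← hmd, ← hF, FiniteField.pow_card]
          rfl⟩
        left_inv := fun t => Subtype.ext (funext fun ε => congrArg t.1 (funext fun i => by
          rw [show i = 0 from Fin.ext (by omega)]))
        right_inv := fun _ => rfl
        map_add' := fun _ _ => rfl }
    refine ⟨ψ.trans θ, fun g x => ?_⟩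
    funext a
    change ((ψ (ρ g x) : TM F (finRotate (0 + 1)) d) : (Fin (0 + 1) → Fin 2) → F) (fun _ => a) = _
    rw [hψ]
    change ∑ δ : Fin 1 → Fin 2, (∏ b : Fin 1, g.1 a (δ b) ^ 2 ^ (d * (b : ℕ))) *
      ((ψ x : TM F (finRotate (0 + 1)) d) : (Fin (0 + 1) → Fin 2) → F) δ = ∑ b, g.1 a b * _
    rw [← (Equiv.funUnique (Fin 1) (Fin 2)).symm.sum_comp]
    refine Finset.sum_congr rfl fun b _ => ?_
    rw [Fin.prod_univ_one]
    change g.1 a b ^ 2 ^ (d * 0) * _ = g.1 a b * _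
    rw [mul_zero, pow_zero, pow_one]
    rfl
  · right; left
    refine ⟨d, hd, by omega, by rw [hcard]; congr 1; omega, ?_⟩
    let θ : TM F (finRotate (1 + 1)) d ≃+ Herm F d :=
      { toFun := fun t => ⟨fun a b => t.1 ![a, b], fun a b => by
          have := t.2 ![a, b]
          rw [rot2] at this
          exact this⟩
        invFun := fun H => ⟨fun ε => H.1 (ε 0) (ε 1), fun ε => H.2 (ε 0) (ε 1)⟩
        left_inv := fun t => Subtype.ext (funext fun ε => congrArg t.1 (eta2 ε))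
        right_inv := fun _ => rfl
        map_add' := fun _ _ => rfl }
    refine ⟨ψ.trans θ, fun g x => ?_⟩
    ext a b
    change ((ψ (ρ g x) : TM F (finRotate (1 + 1)) d) : (Fin (1 + 1) → Fin 2) → F) ![a, b] = _
    rw [hψ]
    change ∑ δ : Fin 2 → Fin 2, (∏ i : Fin 2, g.1 (![a, b] i) (δ i) ^ 2 ^ (d * (i : ℕ))) *
      ((ψ x : TM F (finRotate (1 + 1)) d) : (Fin (1 + 1) → Fin 2) → F) δ = _
    rw [sum2]
    simp only [Fin.prod_univ_two, Matrix.mul_apply, Fin.sum_univ_two, cons_val_zero, cons_val_one, Fin.val_zero,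
      Fin.val_one, mul_zero, mul_one, pow_zero, pow_one, Matrix.transpose_apply, Matrix.map_apply]
    change _ = (g.1 a 0 * ((ψ x : TM F (finRotate (1 + 1)) d) : (Fin (1 + 1) → Fin 2) → F) ![0, 0] +
      g.1 a 1 * ((ψ x : TM F (finRotate (1 + 1)) d) : (Fin (1 + 1) → Fin 2) → F) ![1, 0]) * g.1 b 0 ^ 2 ^ d +
      (g.1 a 0 * ((ψ x : TM F (finRotate (1 + 1)) d) : (Fin (1 + 1) → Fin 2) → F) ![0, 1] +
      g.1 a 1 * ((ψ x : TM F (finRotate (1 + 1)) d) : (Fin (1 + 1) → Fin 2) → F) ![1, 1]) * g.1 b 1 ^ 2 ^ d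
    ring
  · right; right
    refine ⟨d, hd, by omega, by rw [hcard]; congr 1; omega, ?_⟩
    let θ : TM F (finRotate (2 + 1)) d ≃+ Trip F d :=
      { toFun := fun t => ⟨fun a b c => t.1 ![a, b, c], fun a b c => by
          have := t.2 ![a, b, c]
          rw [rot3] at this
          exact this⟩
        invFun := fun H => ⟨fun ε => H.1 (ε 0) (ε 1) (ε 2), fun ε => H.2 (ε 0) (ε 1) (ε 2)⟩
        left_inv := fun t => Subtype.ext (funext fun ε => congrArg t.1 (eta3 ε))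
        right_inv := fun _ => rfl
        map_add' := fun _ _ => rfl }
    refine ⟨ψ.trans θ, fun g x a b c => ?_⟩
    change ((ψ (ρ g x) : TM F (finRotate (2 + 1)) d) : (Fin (2 + 1) → Fin 2) → F) ![a, b, c] = _
    rw [hψ]
    change ∑ δ : Fin 3 → Fin 2, (∏ i : Fin 3, g.1 (![a, b, c] i) (δ i) ^ 2 ^ (d * (i : ℕ))) *
      ((ψ x : TM F (finRotate (2 + 1)) d) : (Fin (2 + 1) → Fin 2) → F) δ = _
    rw [sum3]
    refine Finset.sum_congr rfl fun a' _ => Finset.sum_congr rfl fun b' _ => Finset.sum_congr rfl fun c' _ => ?_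
    rw [Fin.prod_univ_three]
    change g.1 a a' ^ 2 ^ (d * 0) * g.1 b b' ^ 2 ^ (d * 1) * g.1 c c' ^ 2 ^ (d * 2) * _ = _
    rw [mul_zero, mul_one, pow_zero, pow_one, mul_comm d 2]
    rfl

end Cfsg.Agent.Omega.KM

end

section


/-!
# NO-3S, `q = 2`, `n = 1`, a component `SL₂(F)`: the module configuration of (A1) of helper881's text #13700

`Cfg ι N T A v0` : `H` acts faithfully and irreducibly on `N`, `ι : SL(2,F) → H` injective with normal image, `A` a quadratic
elementary abelian group normal in `T`, `|N : C_N(a)| ≤ 2|A|`, `A` normalised by the odd elements of `SL(2,F)` fixing `v0`.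

* `card_A` : `|A| ≤ |F|`; `card_N` : `|N| ≤ 4|F|²`; `mn_top` : `N` is irreducible for `SL(2,F)`;
* `mem_up` : the elements of `A` which act on `SL(2,F)` as inner automorphisms lie in `ι(U)`.
-/

set_option autoImplicit false
set_option linter.unusedSectionVars false

namespace Cfsg.Agent.Omega.NO3S.SLTwo

open Matrix Subgroup Cfsg.Agent.Lib.SL2Mat Cfsg.Agent.Lib.AutSL2 Cfsg.Agent.Lib.AutSL2Out
open Cfsg.Agent.Omega.KM (ww IsIrr km_lt)

variable {F : Type*} [Field F]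

local notation "SL2" => Matrix.SpecialLinearGroup (Fin 2) F

/-- the configuration -/
structure Cfg {F : Type*} [Field F] {H : Type*} [Group H] (ι : Matrix.SpecialLinearGroup (Fin 2) F →* H) (N : Type*)
    [AddCommGroup N] [DistribMulAction H N] (T A : Subgroup H) (v0 : N) : Prop where
  inj : Function.Injective ι
  normal : ι.range.Normal
  two : ∀ n : N, n + n = 0
  irr : ∀ X : AddSubgroup N, (∀ h : H, ∀ x ∈ X, h • x ∈ X) → X = ⊥ ∨ X = ⊤
  up_mem : ∀ b, ι (up b) ∈ T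
  of_mem : ∀ g, ι g ∈ T → ∃ b, g = up b
  le : A ≤ T
  T_norm : ∀ t ∈ T, ∀ a ∈ A, t * a * t⁻¹ ∈ A
  sq : ∀ a ∈ A, a * a = 1
  quad : ∀ a ∈ A, ∀ b ∈ A, ∀ n : N, a • (b • n - n) = b • n - n
  small : ∀ a ∈ A, a ≠ 1 → (fixN N a).index ≤ 2 * Nat.card A
  nc : ∃ a ∈ A, ∃ g, a * ι g ≠ ι g * a
  v_ne : v0 ≠ 0
  v_fix : ∀ b, ι (up b) • v0 = v0
  odd_norm : ∀ g : Matrix.SpecialLinearGroup (Fin 2) F, Odd (orderOf g) → ι g • v0 = v0 →
    ∀ a ∈ A, ι g * a * (ι g)⁻¹ ∈ A

section aut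

variable {H : Type*} [Group H] {ι : Matrix.SpecialLinearGroup (Fin 2) F →* H}

/-- the automorphism of `SL(2,F)` induced by `h` -/
theorem exists_aut (hi : Function.Injective ι) (hn : ι.range.Normal) (h : H) :
    ∃ α : MulAut SL2, ∀ g, ι (α g) = h * ι g * h⁻¹ := by
  let e : SL2 ≃* ι.range := MonoidHom.ofInjective hi
  refine ⟨(e.trans (MulAut.conjNormal h)).trans e.symm, fun g => ?_⟩
  have h1 : ∀ y : ι.range, ι (e.symm y) = y := fun y => by
    have := congrArg Subtype.val (e.apply_symm_apply y)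
    exact this
  change ι (e.symm (MulAut.conjNormal h (e g))) = _
  rw [h1, MulAut.conjNormal_apply]
  rfl

/-- the elements which act on `SL(2,F)` as inner automorphisms -/
def innH (ι : Matrix.SpecialLinearGroup (Fin 2) F →* H) : Subgroup H where
  carrier := {h | ∃ s, ∀ g, h * ι g * h⁻¹ = ι (s * g * s⁻¹)}
  mul_mem' := by
    rintro a b ⟨s, hs⟩ ⟨t, ht⟩
    refine ⟨s * t, fun g => ?_⟩
    calc a * b * ι g * (a * b)⁻¹ = a * (b * ι g * b⁻¹) * a⁻¹ := by group
      _ = ι (s * (t * g * t⁻¹) * s⁻¹) := by rw [ht, hs]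
      _ = ι (s * t * g * (s * t)⁻¹) := by congr 1; group
  one_mem' := ⟨1, fun g => by simp⟩
  inv_mem' := by
    rintro a ⟨s, hs⟩
    refine ⟨s⁻¹, fun g => ?_⟩
    have h1 := hs (s⁻¹ * g * s)
    have e : s * (s⁻¹ * g * s) * s⁻¹ = g := by group
    rw [e] at h1
    have h2 : s⁻¹ * g * s⁻¹⁻¹ = s⁻¹ * g * s := by group
    rw [h2, ← h1]
    group

theorem mem_innH_of {h : H} {α : MulAut SL2} (hα : ∀ g, ι (α g) = h * ι g * h⁻¹) (hi : IsInn α) : h ∈ innH ι := by
  obtain ⟨s, hs⟩ := hi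
  exact ⟨s, fun g => by rw [← hα, hs]⟩

theorem isInn_of (hinj : Function.Injective ι) {h : H} {α : MulAut SL2} (hα : ∀ g, ι (α g) = h * ι g * h⁻¹)
    (hi : h ∈ innH ι) : IsInn α := by
  obtain ⟨s, hs⟩ := hi
  exact ⟨s, fun g => hinj (by rw [hα, hs])⟩

end aut

namespace Cfg

variable {H : Type*} {N : Type*} [Group H] [AddCommGroup N] [DistribMulAction H N]
  {ι : Matrix.SpecialLinearGroup (Fin 2) F →* H} {T A : Subgroup H} {v0 : N}

theorem inv_A (h : Cfg ι N T A v0) {a : H} (ha : a ∈ A) : a⁻¹ = a := inv_eq_of_mul_eq_one_left (h.sq a ha)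

theorem comm_A (h : Cfg ι N T A v0) {a b : H} (ha : a ∈ A) (hb : b ∈ A) : a * b = b * a := by
  have h1 := h.inv_A (mul_mem ha hb)
  rw [_root_.mul_inv_rev, h.inv_A ha, h.inv_A hb] at h1
  exact h1.symm

/-- an automorphism induced by an element of `A` is an involution -/
theorem aut_sq (h : Cfg ι N T A v0) {a : H} (ha : a ∈ A) {α : MulAut SL2} (hα : ∀ g, ι (α g) = a * ι g * a⁻¹) (x : SL2) :
    α (α x) = x := h.inj (by
  rw [hα, hα]
  have := h.sq a ha
  calc a * (a * ι x * a⁻¹) * a⁻¹ = (a * a) * ι x * (a * a)⁻¹ := by group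
    _ = ι x := by rw [this, one_mul, inv_one, mul_one])

theorem aut_up (h : Cfg ι N T A v0) {a : H} (ha : a ∈ A) {α : MulAut SL2} (hα : ∀ g, ι (α g) = a * ι g * a⁻¹) (b : F) :
    ∃ c, α (up b) = up c := by
  refine h.of_mem _ ?_
  rw [hα]
  exact mul_mem (mul_mem (h.le ha) (h.up_mem b)) (inv_mem (h.le ha))

variable [CharP F 2] [Finite F]

/-- `A ∩ C_H(SL(2,F)) = 1` -/
theorem eq_one_of_comm [FaithfulSMul H N] (h : Cfg ι N T A v0) (h4 : 4 ≤ Nat.card F) {b : H} (hb : b ∈ A)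
    (hc : ∀ g, b * ι g = ι g * b) : b = 1 := by
  obtain ⟨a, ha, g0, hg0⟩ := h.nc
  have hcs : ∀ (g : SL2) (n : N), ι g • (b • n - n) = b • (ι g • n) - ι g • n := fun g n => by
    rw [smul_sub, ← mul_smul, ← hc g, mul_smul]
  let K : Subgroup SL2 :=
    { carrier := {g | ∀ n : N, ι g • (b • n - n) = b • n - n}
      mul_mem' := fun {x y} hx hy n => by
        rw [map_mul, mul_smul, hy n, hx n]
      one_mem' := fun n => by rw [map_one, one_smul]
      inv_mem' := fun {x} hx n => by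
        rw [map_inv, inv_smul_eq_iff, hx n] }
  have hK : K.Normal := by
    refine ⟨fun g hg s n => ?_⟩
    have e1 : ι s⁻¹ • (b • n - n) = b • (ι s⁻¹ • n) - ι s⁻¹ • n := hcs _ _
    rw [map_mul, map_mul, mul_smul, mul_smul, e1, hg, ← e1, ← mul_smul, ← map_mul, mul_inv_cancel, map_one, one_smul]
  obtain ⟨α, hα⟩ := exists_aut h.inj h.normal a
  have hmem : α g0 * g0⁻¹ ∈ K := by
    intro n
    have e1 : ι g0⁻¹ • (b • n - n) = b • (ι g0⁻¹ • n) - ι g0⁻¹ • n := hcs _ _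
    have e2 : ∀ m : N, a⁻¹ • (b • m - m) = b • m - m := fun m => by
      rw [h.inv_A ha]; exact h.quad a ha b hb m
    rw [map_mul, mul_smul, e1, hα, mul_smul, mul_smul, e2, ← e1, ← mul_smul (ι g0), ← map_mul, mul_inv_cancel,
      map_one, one_smul, h.quad a ha b hb]
  have hne : K ≠ ⊥ := by
    intro e
    rw [e, mem_bot, mul_inv_eq_one] at hmem
    apply hg0
    have := hα g0
    rw [hmem] at this
    nth_rewrite 2 [this]
    group
  have hT := eq_top_of_normal h4 hK hne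
  have hnt : ∃ g : SL2, ∃ n : N, ι g • n ≠ n := by
    by_contra hcon
    push Not at hcon
    apply hg0
    have h1 : ι g0 = 1 := by
      apply FaithfulSMul.eq_of_smul_eq_smul (α := N)
      intro n
      rw [hcon, one_smul]
    rw [h1, mul_one, one_mul]
  apply FaithfulSMul.eq_of_smul_eq_smul (α := N)
  intro n
  have h1 : b • n - n = 0 := by
    refine fix_eq_zero h.normal h.irr hnt fun g => ?_
    have : g ∈ K := by rw [hT]; trivial
    exact this n
  rw [one_smul]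
  exact sub_eq_zero.1 h1

/-- elements of `A` inducing inner automorphisms -/
theorem exists_q (h : Cfg ι N T A v0) {a : H} (ha : a ∈ A) (hi : a ∈ innH ι) :
    ∃ q, ∀ g, a * ι g * a⁻¹ = ι (up q * g * (up q)⁻¹) := by
  obtain ⟨α, hα⟩ := exists_aut h.inj h.normal a
  obtain ⟨q, hq⟩ := up_of_inn (isInn_of h.inj hα hi) (h.aut_sq ha hα) (h.aut_up ha hα)
  exact ⟨q, fun g => by rw [← hα, hq]⟩

theorem q_inj [FaithfulSMul H N] (h : Cfg ι N T A v0) (h4 : 4 ≤ Nat.card F) {a b : H} (ha : a ∈ A) (hb : b ∈ A) {q : F}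
    (h1 : ∀ g, a * ι g * a⁻¹ = ι (up q * g * (up q)⁻¹)) (h2 : ∀ g, b * ι g * b⁻¹ = ι (up q * g * (up q)⁻¹)) : a = b := by
  have h3 : b⁻¹ * a = 1 := by
    refine h.eq_one_of_comm h4 (mul_mem (inv_mem hb) ha) fun g => ?_
    have := (h1 g).trans (h2 g).symm
    calc b⁻¹ * a * ι g = b⁻¹ * (a * ι g * a⁻¹) * a := by group
      _ = b⁻¹ * (b * ι g * b⁻¹) * a := by rw [this]
      _ = ι g * (b⁻¹ * a) := by group
  rw [inv_mul_eq_one] at h3
  exact h3.symm

/-- some element `≠ 1` of `A` induces an inner automorphism -/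
theorem exists_inn (h : Cfg ι N T A v0) :
    ∃ a ∈ A, a ∈ innH ι ∧ a ≠ 1 := by
  obtain ⟨a, ha, g0, hg0⟩ := h.nc
  by_cases hi : a ∈ innH ι
  · exact ⟨a, ha, hi, by rintro rfl; exact hg0 (by rw [one_mul, mul_one])⟩
  obtain ⟨α, hα⟩ := exists_aut h.inj h.normal a
  have h1 : ∃ b, α (up b) ≠ up b := by
    by_contra hcon
    push Not at hcon
    obtain ⟨q, hq⟩ := up_of_fix hcon
    exact hi (mem_innH_of hα ⟨_, hq⟩)
  obtain ⟨b, hb⟩ := h1
  have e : ι (α (up b) * (up b)⁻¹) = a * (ι (up b) * a⁻¹ * (ι (up b))⁻¹) := by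
    rw [map_mul, hα, map_inv]; group
  refine ⟨ι (α (up b) * (up b)⁻¹), ?_, ⟨α (up b) * (up b)⁻¹, fun g => by
    simp only [map_mul, map_inv]⟩, ?_⟩
  · rw [e]
    exact mul_mem ha (h.T_norm _ (h.up_mem b) _ (inv_mem ha))
  · intro e1
    apply hb
    have := h.inj (e1.trans (map_one ι).symm)
    exact mul_inv_eq_one.1 this

/-- `|A| ≤ |F|` -/
theorem card_A [Finite H] [FaithfulSMul H N] (h : Cfg ι N T A v0) (h4 : 4 ≤ Nat.card F) :
    Nat.card A ≤ Nat.card F := by
  classical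
  have hq : ∀ a : (A ⊓ innH ι : Subgroup H), ∃ q, ∀ g, (a : H) * ι g * (a : H)⁻¹ = ι (up q * g * (up q)⁻¹) :=
    fun a => h.exists_q a.2.1 a.2.2
  choose q hq using hq
  have hqi : Function.Injective q := by
    intro a b hab
    refine Subtype.ext (h.q_inj h4 a.2.1 b.2.1 (hq a) ?_)
    rw [hab]
    exact hq b
  by_cases hA : A ≤ innH ι
  · have : (A ⊓ innH ι : Subgroup H) = A := inf_eq_left.2 hA
    have h1 := Nat.card_le_card_of_injective q hqi
    rwa [this] at h1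
  · obtain ⟨a, ha, hai⟩ := SetLike.not_le_iff_exists.1 hA
    obtain ⟨α, hα⟩ := exists_aut h.inj h.normal a
    -- the fixed subgroup of `α` in `U`
    let Q : AddSubgroup F :=
      { carrier := {b | α (up b) = up b}
        add_mem' := fun {x y} hx hy => by
          change α (up (x + y)) = up (x + y)
          rw [← up_mul, map_mul, show α (up x) = up x from hx, show α (up y) = up y from hy]
        zero_mem' := by
          change α (up 0) = up 0
          rw [up_zero, map_one]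
        neg_mem' := fun {x} hx => by
          change α (up (-x)) = up (-x)
          rw [← up_inv, map_inv, show α (up x) = up x from hx] }
    have hQ : Q ≠ ⊤ := by
      intro e
      obtain ⟨q, hq⟩ := up_of_fix (α := α) fun b => by
        have : b ∈ Q := by rw [e]; trivial
        exact this
      exact hai (mem_innH_of hα ⟨_, hq⟩)
    have hqQ : ∀ b : (A ⊓ innH ι : Subgroup H), q b ∈ Q := by
      intro b
      refine eq_of_conj fun x => ?_
      apply h.inj
      have hx : α (α⁻¹ x) = x := MulAut.apply_inv_self _ _ _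
      have hab := h.comm_A ha b.2.1
      rw [← hq b x]
      have e1 : α (up (q b)) * x * (α (up (q b)))⁻¹ = α (up (q b) * α⁻¹ x * (up (q b))⁻¹) := by
        rw [map_mul, map_mul, map_inv, hx]
      have e2 : ι x = a * ι (α⁻¹ x) * a⁻¹ := by rw [← hα, hx]
      rw [e1, hα, ← hq b, e2]
      calc a * ((b : H) * ι (α⁻¹ x) * (b : H)⁻¹) * a⁻¹ = (a * b) * ι (α⁻¹ x) * (a * b)⁻¹ := by group
        _ = (b * a) * ι (α⁻¹ x) * (b * a)⁻¹ := by rw [hab]
        _ = (b : H) * (a * ι (α⁻¹ x) * a⁻¹) * (b : H)⁻¹ := by group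
    have h1 : Nat.card (A ⊓ innH ι : Subgroup H) ≤ Nat.card Q :=
      Nat.card_le_card_of_injective (fun b => (⟨q b, hqQ b⟩ : Q)) fun x y hxy => hqi (congrArg Subtype.val hxy)
    have h2 : 2 * Nat.card Q ≤ Nat.card F := by
      rw [← AddSubgroup.card_mul_index Q, mul_comm]
      refine Nat.mul_le_mul_left _ ?_
      have h3 : Q.index ≠ 1 := fun e => hQ (AddSubgroup.index_eq_one.1 e)
      have h4 : Q.index ≠ 0 := AddSubgroup.index_ne_zero_of_finite
      omega
    have h3 : (A : Set H) ⊆ ((A ⊓ innH ι : Subgroup H) : Set H) ∪ (fun x => a * x) '' ((A ⊓ innH ι : Subgroup H) : Set H) := by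
      intro b hb
      by_cases hbi : b ∈ innH ι
      · exact Or.inl ⟨hb, hbi⟩
      · right
        refine ⟨a⁻¹ * b, Subgroup.mem_inf.2 ⟨A.mul_mem (A.inv_mem ha) hb, ?_⟩, by group⟩
        rw [h.inv_A ha]
        obtain ⟨β, hβ⟩ := exists_aut h.inj h.normal b
        refine mem_innH_of (α := α * β) (fun g => ?_) (inn_mul (h.aut_sq ha hα) (h.aut_sq hb hβ)
          (fun e => hai (mem_innH_of hα e)) fun e => hbi (mem_innH_of hβ e))
        rw [MulAut.mul_apply, hα, hβ]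
        group
    have h5 : Nat.card A ≤ Nat.card (A ⊓ innH ι : Subgroup H) + Nat.card (A ⊓ innH ι : Subgroup H) := by
      have e1 : Nat.card A = (A : Set H).ncard := rfl
      have e2 : Nat.card (A ⊓ innH ι : Subgroup H) = ((A ⊓ innH ι : Subgroup H) : Set H).ncard := rfl
      rw [e1, e2]
      refine (Set.ncard_le_ncard h3 (Set.toFinite _)).trans ((Set.ncard_union_le _ _).trans ?_)
      exact Nat.add_le_add_left (Set.ncard_image_le (Set.toFinite _)) _
    omega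

theorem exists_nt (h : Cfg ι N T A v0) [FaithfulSMul H N] : ∃ g : SL2, ∃ n : N, ι g • n ≠ n := by
  by_contra hcon
  push Not at hcon
  obtain ⟨a, ha, g0, hg0⟩ := h.nc
  apply hg0
  have h1 : ι g0 = 1 := by
    apply FaithfulSMul.eq_of_smul_eq_smul (α := N)
    intro n
    rw [hcon, one_smul]
  rw [h1, mul_one, one_mul]

/-- `|N| ≤ 4 |A|²` -/
theorem card_N' [Finite H] [Finite N] [FaithfulSMul H N] (h : Cfg ι N T A v0) (h4 : 4 ≤ Nat.card F) :
    Nat.card N ≤ (2 * Nat.card A) ^ 2 := by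
  have : Fintype F := Fintype.ofFinite F
  obtain ⟨m, -, hm⟩ := FiniteField.card F 2
  obtain ⟨t, ht, hs⟩ := trace_zero hm h.two h.normal h.irr h.exists_nt
  obtain ⟨a, ha, hai, ha1⟩ := h.exists_inn
  obtain ⟨q, hq⟩ := h.exists_q ha hai
  have hq0 : q ≠ 0 := by
    rintro rfl
    refine ha1 (h.eq_one_of_comm h4 ha fun g => ?_)
    have := hq g
    rw [up_zero, one_mul, inv_one, mul_one] at this
    exact mul_inv_eq_iff_eq_mul.1 this
  exact (card_le_sq hm h.two ht hs hq0 hq).trans (Nat.pow_le_pow_left (h.small a ha ha1) 2)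

/-- `|N| ≤ 4 |F|²` -/
theorem card_N [Finite H] [Finite N] [FaithfulSMul H N] (h : Cfg ι N T A v0) (h4 : 4 ≤ Nat.card F) :
    Nat.card N ≤ (2 * Nat.card F) ^ 2 :=
  (h.card_N' h4).trans (Nat.pow_le_pow_left (Nat.mul_le_mul_left _ (h.card_A h4)) 2)

theorem lt_four {q n : ℕ} (h4 : 4 ≤ q) (h : n ≤ (2 * q) ^ 2) : n < q ^ 4 := by
  refine lt_of_le_of_lt h ?_
  have h1 : (2 * q) ^ 2 = 4 * q ^ 2 := by ring
  have h2 : q ^ 4 = q ^ 2 * q ^ 2 := by ring
  rw [h1, h2]
  have h3 : 4 < q ^ 2 := by nlinarith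
  exact Nat.mul_lt_mul_of_pos_right h3 (by positivity)

/-- a minimal submodule has order at least `|F|²` -/
theorem card_mn [Finite H] [Finite N] [FaithfulSMul H N] (h : Cfg ι N T A v0) (h4 : 4 ≤ Nat.card F)
    {Y : AddSubgroup N} (hY : Mn ι Y) : Nat.card F ^ 2 ≤ Nat.card Y := by
  have : Fintype F := Fintype.ofFinite F
  obtain ⟨m, -, hm⟩ := FiniteField.card F 2
  have hc : Nat.card Y < Fintype.card F ^ 4 := by
    rw [← Nat.card_eq_fintype_card]
    exact lt_four h4 ((Nat.card_le_card_of_injective _ Subtype.val_injective).trans (h.card_N h4))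
  have hirr : IsIrr (res hY.inv) := ⟨mn_nontrivial hY, res_irr hY⟩
  have hnt : ∃ g x, res hY.inv g x ≠ x := by
    by_contra hcon
    push Not at hcon
    apply hY.ne
    rw [AddSubgroup.eq_bot_iff_forall]
    intro x hx
    exact fix_eq_zero h.normal h.irr h.exists_nt fun g => congrArg Subtype.val (hcon g ⟨x, hx⟩)
  rcases km_lt hm (fun v : Y => Subtype.ext (h.two v)) hirr hnt hc with ⟨e, -⟩ | ⟨d, -, hmd, hcd, -⟩ |
    ⟨d, -, hmd, hcd, -⟩
  · rw [Nat.card_congr e.toEquiv, Nat.card_fun, Nat.card_eq_fintype_card (α := Fin 2), Fintype.card_fin]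
  · rw [hcd, Nat.card_eq_fintype_card, hm, ← pow_mul]
    exact Nat.pow_le_pow_right (by norm_num) (by omega)
  · rw [hcd, Nat.card_eq_fintype_card, hm, ← pow_mul]
    exact Nat.pow_le_pow_right (by norm_num) (by omega)

/-- `N` is irreducible for `SL(2,F)` -/
theorem mn_top [Finite H] [Finite N] [FaithfulSMul H N] (h : Cfg ι N T A v0) (h4 : 4 ≤ Nat.card F) :
    Mn ι (⊤ : AddSubgroup N) := by
  have hne : (⊤ : AddSubgroup N) ≠ ⊥ := by
    intro e
    have h1 : v0 ∈ (⊥ : AddSubgroup N) := by rw [← e]; trivial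
    exact h.v_ne h1
  obtain ⟨Y, -, hY⟩ := exists_mn (ι := ι) (X := (⊤ : AddSubgroup N)) (fun _ _ _ => trivial) hne
  by_cases hcon : ∀ g : H, tr g Y ≤ Y
  · have h1 : (⊤ : AddSubgroup N) ≤ Y := by
      rw [← mn_span h.irr hY]
      exact iSup_le hcon
    rwa [← top_le_iff.1 h1]
  push Not at hcon
  obtain ⟨g, hg⟩ := hcon
  exfalso
  have hZ := mn_tr h.normal hY g
  have h1 : tr g Y ⊓ Y = ⊥ := by
    refine (hZ.min _ (fun s x hx => AddSubgroup.mem_inf.2 ⟨hZ.inv s x hx.1, hY.inv s x hx.2⟩) inf_le_left).resolve_right fun e => hg ?_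
    rw [← e]; exact inf_le_right
  have h2 : Nat.card (tr g Y) ≤ Y.index := by
    refine Nat.card_le_card_of_injective (fun x : tr g Y => (QuotientAddGroup.mk (x : N) : N ⧸ Y)) ?_
    intro x y hxy
    have h4 := QuotientAddGroup.eq.1 hxy
    have h5 : -(x : N) + y ∈ tr g Y ⊓ Y := AddSubgroup.mem_inf.2 ⟨add_mem (neg_mem x.2) y.2, h4⟩
    rw [h1, AddSubgroup.mem_bot] at h5
    exact Subtype.ext (neg_add_eq_zero.1 h5)
  rw [card_tr] at h2
  have h3 : Nat.card Y * Nat.card Y ≤ Nat.card N := by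
    rw [← AddSubgroup.card_mul_index Y]
    exact Nat.mul_le_mul_left _ h2
  have h5 := h.card_mn h4 hY
  have h6 := lt_four h4 (h.card_N h4)
  have h7 : Nat.card F ^ 4 ≤ Nat.card Y * Nat.card Y := by
    calc Nat.card F ^ 4 = Nat.card F ^ 2 * Nat.card F ^ 2 := by ring
      _ ≤ _ := Nat.mul_le_mul h5 h5
  omega

/-- elements of `A` inducing inner automorphisms lie in `U` -/
theorem mem_up [Finite H] [Finite N] [FaithfulSMul H N] (h : Cfg ι N T A v0) (h4 : 4 ≤ Nat.card F) {a : H}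
    (ha : a ∈ A) (hi : a ∈ innH ι) : ∃ q, a = ι (up q) := by
  obtain ⟨q, hq⟩ := h.exists_q ha hi
  refine ⟨q, ?_⟩
  set c := a * (ι (up q))⁻¹ with hc
  have hac : a * ι (up q) = ι (up q) * a := by
    have := hq (up q)
    rw [mul_inv_cancel_right] at this
    nth_rewrite 2 [← this]
    group
  have huu : ι (up q) * ι (up q) = 1 := by
    rw [← map_mul, up_mul, CharTwo.add_self_eq_zero, up_zero, map_one]
  have hcc : c * c = 1 := by
    have e : (ι (up q))⁻¹ = ι (up q) := inv_eq_of_mul_eq_one_left huu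
    rw [hc, e]
    calc a * ι (up q) * (a * ι (up q)) = a * (ι (up q) * a) * ι (up q) := by group
      _ = a * (a * ι (up q)) * ι (up q) := by rw [hac]
      _ = (a * a) * (ι (up q) * ι (up q)) := by group
      _ = 1 := by rw [h.sq a ha, huu, one_mul]
  have hcg : ∀ g, c * ι g = ι g * c := by
    intro g
    have := hq ((up q)⁻¹ * g * up q)
    have e : up q * ((up q)⁻¹ * g * up q) * (up q)⁻¹ = g := by group
    rw [e] at this
    rw [hc]
    calc a * (ι (up q))⁻¹ * ι g = a * ι ((up q)⁻¹ * g * up q) * a⁻¹ * (a * (ι (up q))⁻¹) := by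
          rw [map_mul, map_mul, map_inv]; group
      _ = ι g * (a * (ι (up q))⁻¹) := by rw [this]
  have hinv : Inv ι (fixN N c) := by
    intro g x hx
    rw [mem_fixN] at *
    rw [← mul_smul, hcg, mul_smul, hx]
  have hne : fixN N c ≠ ⊥ := by
    intro e
    have h1 : v0 + c • v0 ∈ fixN N c := by
      rw [mem_fixN, smul_add, ← mul_smul, hcc, one_smul, add_comm]
    rw [e, AddSubgroup.mem_bot] at h1
    have h2 : c • v0 = v0 := by
      have h3 := h.two v0
      have h4 : c • v0 = -v0 := by rw [← add_eq_zero_iff_eq_neg']; exact h1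
      rw [h4]
      exact neg_eq_of_add_eq_zero_left h3
    have h3 : v0 ∈ fixN N c := h2
    rw [e, AddSubgroup.mem_bot] at h3
    exact h.v_ne h3
  have htop := ((h.mn_top h4).min _ hinv le_top).resolve_left hne
  have h1 : c = 1 := by
    apply FaithfulSMul.eq_of_smul_eq_smul (α := N)
    intro n
    have : n ∈ fixN N c := by rw [htop]; trivial
    rw [one_smul]
    exact this
  rw [hc, mul_inv_eq_one] at h1
  exact h1

/-- some element `up q`, `q ≠ 0`, lies in `A` -/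
theorem exists_up [Finite H] [Finite N] [FaithfulSMul H N] (h : Cfg ι N T A v0) (h4 : 4 ≤ Nat.card F) :
    ∃ q, q ≠ 0 ∧ ι (up q) ∈ A := by
  obtain ⟨a, ha, hai, ha1⟩ := h.exists_inn
  obtain ⟨q, rfl⟩ := h.mem_up h4 ha hai
  exact ⟨q, by rintro rfl; exact ha1 (by rw [up_zero, map_one]), ha⟩

end Cfg

end Cfsg.Agent.Omega.NO3S.SLTwo

end

section


/-!
# NO-3S, `q = 2`, `n = 1`, a component `SL₂(F)`: the module is natural ((A1) of helper881's text #13700)

`Cfg.natural` : `N` is the natural `SL₂(F)`-module and `A ≤ ι(U)`.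
-/

set_option autoImplicit false
set_option linter.unusedSectionVars false

namespace Cfsg.Agent.Omega.NO3S.SLTwo

open Matrix Subgroup Cfsg.Agent.Lib.SL2Mat Cfsg.Agent.Lib.AutSL2 Cfsg.Agent.Lib.AutSL2Out
open Cfsg.Agent.Omega.KM (ww IsIrr km_lt Herm Trip mem_Herm mem_Trip)

variable {F : Type*} [Field F]

local notation "SL2" => Matrix.SpecialLinearGroup (Fin 2) F

/-- an element with `s ^ k ≠ 1` -/
theorem exists_pow_ne [Finite F] {k : ℕ} (hk : 0 < k) (hk' : k < Nat.card F - 1) : ∃ s : F, s ≠ 0 ∧ s ^ k ≠ 1 := by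
  classical
  have : Fintype F := Fintype.ofFinite F
  obtain ⟨g, hg⟩ := IsCyclic.exists_generator (α := Fˣ)
  refine ⟨g, g.ne_zero, fun e => ?_⟩
  have h1 : g ^ k = 1 := Units.ext (by rw [Units.val_pow_eq_pow_val]; exact e)
  have h2 := orderOf_dvd_of_pow_eq_one h1
  rw [orderOf_eq_card_of_forall_mem_zpowers hg, Nat.card_eq_fintype_card, Fintype.card_units,
    ← Nat.card_eq_fintype_card] at h2
  have := Nat.le_of_dvd hk h2
  omega

theorem dg_pow (t : F) (ht : t ≠ 0) (n : ℕ) : dg t ht ^ n = dg (t ^ n) (pow_ne_zero n ht) := by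
  induction n with
  | zero => refine ext_ent ?_ ?_ ?_ ?_ <;> simp
  | succ n ih =>
    rw [pow_succ, ih]
    refine ext_ent ?_ ?_ ?_ ?_ <;> simp [ent_mul, pow_succ, mul_comm]

theorem odd_dg [Finite F] [CharP F 2] (t : F) (ht : t ≠ 0) : Odd (orderOf (dg t ht)) := by
  have : Fintype F := Fintype.ofFinite F
  obtain ⟨m, -, hm⟩ := FiniteField.card F 2
  have h1 : dg t ht ^ (Fintype.card F - 1) = 1 := by
    rw [dg_pow]
    refine ext_ent ?_ ?_ ?_ ?_ <;> simp [FiniteField.pow_card_sub_one_eq_one t ht]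
  have h2 : Odd (Fintype.card F - 1) := by
    rw [hm]
    have : 2 ∣ 2 ^ (m : ℕ) := dvd_pow_self 2 m.pos.ne'
    have h3 : 0 < 2 ^ (m : ℕ) := by positivity
    rw [← Nat.not_even_iff_odd, even_iff_two_dvd]
    omega
  exact Odd.of_dvd_nat h2 (orderOf_dvd_of_pow_eq_one h1)

/-! ### `O_4^-` -/

section herm

variable [CharP F 2] {d : ℕ}

theorem herm_up (b : F) (M : Matrix (Fin 2) (Fin 2) F) : (up b).1 * M * ((up b).1.map (· ^ 2 ^ d))ᵀ =
    !![M 0 0 + b * M 1 0 + (M 0 1 + b * M 1 1) * b ^ 2 ^ d, M 0 1 + b * M 1 1;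
      M 1 0 + M 1 1 * b ^ 2 ^ d, M 1 1] := by
  have h : (up b).1 = !![1, b; 0, 1] := rfl
  rw [h]
  ext i j
  fin_cases i <;> fin_cases j <;>
    simp [Matrix.mul_apply, Fin.sum_univ_two, Matrix.vecMul, dotProduct]

theorem herm_dg (t : F) (ht : t ≠ 0) (M : Matrix (Fin 2) (Fin 2) F) :
    (dg t ht).1 * M * ((dg t ht).1.map (· ^ 2 ^ d))ᵀ =
    !![t * M 0 0 * t ^ 2 ^ d, t * M 0 1 * t⁻¹ ^ 2 ^ d; t⁻¹ * M 1 0 * t ^ 2 ^ d, t⁻¹ * M 1 1 * t⁻¹ ^ 2 ^ d] := by
  have h : (dg t ht).1 = !![t, 0; 0, t⁻¹] := rfl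
  rw [h]
  ext i j
  fin_cases i <;> fin_cases j <;>
    simp [Matrix.mul_apply, Fin.sum_univ_two, Matrix.vecMul, dotProduct]

end herm

/-! ### triple tensors -/

section trip

variable [CharP F 2] {d : ℕ}

/-- the action on triple tensors -/
def tri (d : ℕ) (g : Matrix (Fin 2) (Fin 2) F) (x : Fin 2 → Fin 2 → Fin 2 → F) (a b c : Fin 2) : F :=
  ∑ a', ∑ b', ∑ c', g a a' * g b b' ^ 2 ^ d * g c c' ^ 2 ^ (2 * d) * x a' b' c'

theorem tri_up_000 (q : F) (x : Fin 2 → Fin 2 → Fin 2 → F) : tri d (up q).1 x 0 0 0 =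
    x 0 0 0 + q * x 1 0 0 + q ^ 2 ^ d * x 0 1 0 + q ^ 2 ^ (2 * d) * x 0 0 1 + q * q ^ 2 ^ d * x 1 1 0 +
      q * q ^ 2 ^ (2 * d) * x 1 0 1 + q ^ 2 ^ d * q ^ 2 ^ (2 * d) * x 0 1 1 +
      q * q ^ 2 ^ d * q ^ 2 ^ (2 * d) * x 1 1 1 := by
  have h : (up q).1 = !![1, q; 0, 1] := rfl
  rw [h]
  simp [tri, Fin.sum_univ_two]
  ring

theorem tri_up_001 (q : F) (x : Fin 2 → Fin 2 → Fin 2 → F) : tri d (up q).1 x 0 0 1 =
    x 0 0 1 + q * x 1 0 1 + q ^ 2 ^ d * x 0 1 1 + q * q ^ 2 ^ d * x 1 1 1 := by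
  have h : (up q).1 = !![1, q; 0, 1] := rfl
  rw [h]
  simp [tri, Fin.sum_univ_two]
  ring

theorem tri_up_011 (q : F) (x : Fin 2 → Fin 2 → Fin 2 → F) : tri d (up q).1 x 0 1 1 =
    x 0 1 1 + q * x 1 1 1 := by
  have h : (up q).1 = !![1, q; 0, 1] := rfl
  rw [h]
  simp [tri, Fin.sum_univ_two]

theorem tri_up_101 (q : F) (x : Fin 2 → Fin 2 → Fin 2 → F) : tri d (up q).1 x 1 0 1 =
    x 1 0 1 + q ^ 2 ^ d * x 1 1 1 := by
  have h : (up q).1 = !![1, q; 0, 1] := rfl
  rw [h]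
  simp [tri, Fin.sum_univ_two]

theorem tri_up_111 (q : F) (x : Fin 2 → Fin 2 → Fin 2 → F) : tri d (up q).1 x 1 1 1 = x 1 1 1 := by
  have h : (up q).1 = !![1, q; 0, 1] := rfl
  rw [h]
  simp [tri, Fin.sum_univ_two]

end trip

namespace Cfg

variable {H : Type*} {N : Type*} [Group H] [AddCommGroup N] [DistribMulAction H N]
  {ι : Matrix.SpecialLinearGroup (Fin 2) F →* H} {T A : Subgroup H} {v0 : N} [CharP F 2] [Fintype F]

/-- conjugates of `up q ∈ A` under the elements of the torus which fix `v0` -/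
theorem up_mem_A (h : Cfg ι N T A v0) {q t : F} (ht : t ≠ 0) (hq : ι (up q) ∈ A) (hv : ι (dg t ht) • v0 = v0) :
    ι (up (t ^ 2 * q)) ∈ A := by
  have := h.odd_norm _ (odd_dg t ht) hv _ hq
  rw [← map_mul, dg_up, map_mul, mul_inv_cancel_right] at this
  exact this

/-- `O_4^-` is impossible -/
theorem not_herm [Finite H] [Finite N] [FaithfulSMul H N] (h : Cfg ι N T A v0) (h4 : 4 ≤ Nat.card F) {d : ℕ} (hd : 0 < d)
    (hF : Fintype.card F = 2 ^ (2 * d)) (e : N ≃+ Herm F d)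
    (he : ∀ g x, ((e (ι g • x) : Herm F d) : Matrix (Fin 2) (Fin 2) F) =
      g.1 * (e x : Matrix (Fin 2) (Fin 2) F) * (g.1.map (· ^ 2 ^ d))ᵀ) : False := by
  have hd2 : 2 ≤ 2 ^ d := by
    calc 2 = 2 ^ 1 := by norm_num
      _ ≤ 2 ^ d := Nat.pow_le_pow_right (by norm_num) hd
  have hcard : Nat.card F = 2 ^ d * 2 ^ d := by rw [Nat.card_eq_fintype_card, hF, two_mul, pow_add]
  obtain ⟨q, hq0, hq⟩ := h.exists_up h4
  -- a torus element
  obtain ⟨s, hs0, hs⟩ := exists_pow_ne (F := F) (k := 2 ^ d - 1) (by omega) (by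
    rw [hcard]
    have : 2 * 2 ^ d ≤ 2 ^ d * 2 ^ d := Nat.mul_le_mul_right _ hd2
    omega)
  set t := s ^ (2 ^ d - 1) with htd
  have ht0 : t ≠ 0 := pow_ne_zero _ hs0
  have htt : t * t ^ 2 ^ d = 1 := by
    have h1 : t * t ^ 2 ^ d = s ^ (Fintype.card F - 1) := by
      rw [htd, ← pow_mul, ← pow_add]
      congr 1
      rw [← Nat.card_eq_fintype_card, hcard]
      have : (2 ^ d - 1) * 2 ^ d = 2 ^ d * 2 ^ d - 2 ^ d := by rw [Nat.sub_mul, one_mul]
      rw [this]
      have : 2 ^ d ≤ 2 ^ d * 2 ^ d := Nat.le_mul_of_pos_left _ (by positivity)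
      omega
    rw [h1, FiniteField.pow_card_sub_one_eq_one s hs0]
  have hst : s * t = s ^ 2 ^ d := by rw [htd, ← pow_succ', Nat.sub_add_cancel (by omega)]
  clear_value t
  -- the shape of `v0`
  set M : Matrix (Fin 2) (Fin 2) F := (e v0 : Matrix (Fin 2) (Fin 2) F) with hM
  have hfix : ∀ b, (!![M 0 0 + b * M 1 0 + (M 0 1 + b * M 1 1) * b ^ 2 ^ d, M 0 1 + b * M 1 1;
      M 1 0 + M 1 1 * b ^ 2 ^ d, M 1 1] : Matrix (Fin 2) (Fin 2) F) = M := fun b => by
    rw [← herm_up, ← he, h.v_fix]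
  have h11 : M 1 1 = 0 := by
    have := congrFun (congrFun (hfix 1) 0) 1
    change M 0 1 + 1 * M 1 1 = M 0 1 at this
    rw [one_mul] at this
    exact add_eq_left.1 this
  have hh : ∀ b, b * M 1 0 + M 0 1 * b ^ 2 ^ d = 0 := fun b => by
    have := congrFun (congrFun (hfix b) 0) 0
    change M 0 0 + b * M 1 0 + (M 0 1 + b * M 1 1) * b ^ 2 ^ d = M 0 0 at this
    rw [h11, mul_zero, add_zero, add_assoc] at this
    exact add_eq_left.1 this
  have h01 : M 1 0 = M 0 1 := by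
    have := hh 1
    rw [one_mul, one_pow, mul_one] at this
    exact CharTwo.add_eq_zero.1 this
  have h01' : M 0 1 = 0 := by
    have h1 := hh s
    rw [h01] at h1
    have h2 : M 0 1 * (s * (1 + t)) = 0 := by
      rw [mul_add, mul_one, hst]
      linear_combination h1
    rcases mul_eq_zero.1 h2 with h3 | h3
    · exact h3
    · exfalso
      rcases mul_eq_zero.1 h3 with h3 | h3
      · exact hs0 h3
      · exact hs (CharTwo.add_eq_zero.1 h3).symm
  have h10 : M 1 0 = 0 := by rw [h01, h01']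
  -- the torus element fixes `v0`
  have hv : ι (dg t ht0) • v0 = v0 := by
    apply e.injective
    apply Subtype.ext
    rw [he, herm_dg]
    ext i j
    fin_cases i <;> fin_cases j
    · change t * M 0 0 * t ^ 2 ^ d = M 0 0
      linear_combination M 0 0 * htt
    · change t * M 0 1 * t⁻¹ ^ 2 ^ d = M 0 1
      rw [h01', mul_zero, zero_mul]
    · change t⁻¹ * M 1 0 * t ^ 2 ^ d = M 1 0
      rw [h10, mul_zero, zero_mul]
    · change t⁻¹ * M 1 1 * t⁻¹ ^ 2 ^ d = M 1 1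
      rw [h11, mul_zero, zero_mul]
  have hq' := h.up_mem_A ht0 hq hv
  -- quadratic action
  have hE : (!![0, 0; 0, 1] : Matrix (Fin 2) (Fin 2) F) ∈ Herm F d := by
    rw [mem_Herm]
    have h2d : 2 ^ d ≠ 0 := by positivity
    intro a b
    fin_cases a <;> fin_cases b <;> simp
  obtain ⟨n, hn⟩ := e.surjective ⟨_, hE⟩
  have hn' : (e n : Matrix (Fin 2) (Fin 2) F) = !![0, 0; 0, 1] := by rw [hn]
  have h1 := h.quad _ hq' _ hq n
  set x := ι (up q) • n - n with hx
  have hxM : (e x : Matrix (Fin 2) (Fin 2) F) = !![q * q ^ 2 ^ d, q; q ^ 2 ^ d, 0] := by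
    have h2 : (e x : Matrix (Fin 2) (Fin 2) F) = (e (ι (up q) • n) : Matrix (Fin 2) (Fin 2) F) - e n := by
      rw [hx, map_sub]; rfl
    rw [h2, he, herm_up, hn']
    ext i j
    fin_cases i <;> fin_cases j <;> simp
  have h2 := congrArg (fun y => (e y : Matrix (Fin 2) (Fin 2) F) 0 0) h1
  simp only [he, herm_up, hxM] at h2
  change q * q ^ 2 ^ d + t ^ 2 * q * q ^ 2 ^ d + (q + t ^ 2 * q * 0) * (t ^ 2 * q) ^ 2 ^ d = q * q ^ 2 ^ d at h2
  have h3 : q * q ^ 2 ^ d * (t ^ 2 + (t ^ 2 ^ d) ^ 2) = 0 := by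
    have e1 : (t ^ 2 * q) ^ 2 ^ d = (t ^ 2 ^ d) ^ 2 * q ^ 2 ^ d := by
      rw [mul_pow, ← pow_mul, ← pow_mul, mul_comm 2]
    rw [e1] at h2
    linear_combination h2
  have h4' : t ^ 2 + (t ^ 2 ^ d) ^ 2 = 0 := (mul_eq_zero.1 h3).resolve_left
    (mul_ne_zero hq0 (pow_ne_zero _ hq0))
  have h5 : t ^ 2 ^ d = t := by
    have h6 : (t + t ^ 2 ^ d) ^ 2 = 0 := by rw [CharTwo.add_sq]; exact h4'
    have h7 := pow_eq_zero_iff (two_ne_zero) |>.1 h6
    exact (CharTwo.add_eq_zero.1 h7).symm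
  rw [h5] at htt
  have h6 : (t + 1) ^ 2 = 0 := by rw [CharTwo.add_sq, pow_two, htt, one_pow, CharTwo.add_self_eq_zero]
  have h7 := pow_eq_zero_iff (two_ne_zero) |>.1 h6
  exact hs (CharTwo.add_eq_zero.1 h7)

/-- the triple tensor module is impossible -/
theorem not_trip [Finite H] [Finite N] [FaithfulSMul H N] (h : Cfg ι N T A v0) (h4 : 4 ≤ Nat.card F) {d : ℕ} (hd : 0 < d)
    (hF : Fintype.card F = 2 ^ (3 * d)) (e : N ≃+ Trip F d)
    (he : ∀ g x a b c, ((e (ι g • x) : Trip F d) : Fin 2 → Fin 2 → Fin 2 → F) a b c =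
      tri d g.1 (e x : Fin 2 → Fin 2 → Fin 2 → F) a b c) : False := by
  have hd2 : 2 ≤ 2 ^ d := by
    calc 2 = 2 ^ 1 := by norm_num
      _ ≤ 2 ^ d := Nat.pow_le_pow_right (by norm_num) hd
  have hcard : Nat.card F = 2 ^ d * 2 ^ d * 2 ^ d := by
    rw [Nat.card_eq_fintype_card, hF, ← pow_add, ← pow_add]
    congr 1
    ring
  obtain ⟨q, hq0, hq⟩ := h.exists_up h4
  -- a torus element
  obtain ⟨k, hk⟩ : ∃ k, 2 ^ d = k + 1 := ⟨2 ^ d - 1, by omega⟩
  have hk1 : 1 ≤ k := by omega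
  obtain ⟨s, hs0, hs⟩ := exists_pow_ne (F := F) (k := k * k) (by positivity) (by
    rw [hcard, hk]
    have : k * k + 1 < (k + 1) * (k + 1) * (k + 1) := by nlinarith
    omega)
  set t := s ^ k with htd
  have ht0 : t ≠ 0 := pow_ne_zero _ hs0
  have htt : t * t ^ 2 ^ d * t ^ 2 ^ (2 * d) = 1 := by
    have h1 : t * t ^ 2 ^ d * t ^ 2 ^ (2 * d) = s ^ (Fintype.card F - 1) := by
      have e1 : 2 ^ (2 * d) = (k + 1) * (k + 1) := by rw [← hk, two_mul, pow_add]
      rw [htd, e1, hk, ← pow_mul, ← pow_mul, ← pow_add, ← pow_add]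
      congr 1
      rw [← Nat.card_eq_fintype_card, hcard, hk]
      have : (k + 1) * (k + 1) * (k + 1) = k + k * (k + 1) + k * ((k + 1) * (k + 1)) + 1 := by ring
      rw [this, Nat.add_sub_cancel]
    rw [h1, FiniteField.pow_card_sub_one_eq_one s hs0]
  have hst : s * t = s ^ 2 ^ d := by rw [htd, hk, ← pow_succ']
  have hne : t ^ 2 ^ d ≠ t := by
    intro e1
    rw [hk, pow_succ] at e1
    have e2 : t ^ k = 1 := by
      have := mul_right_cancel₀ ht0 (e1.trans (one_mul t).symm)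
      exact this
    rw [htd, ← pow_mul] at e2
    exact hs e2
  have ht1 : t ≠ 1 := by
    intro e1
    exact hne (by rw [e1, one_pow])
  clear_value t
  -- the shape of `v0`
  set M : Fin 2 → Fin 2 → Fin 2 → F := (e v0 : Fin 2 → Fin 2 → Fin 2 → F) with hM
  have hMT : ∀ a b c, M a b c = M b c a ^ 2 ^ d := (e v0).2
  have hfix : ∀ r a b c, tri d (up r).1 M a b c = M a b c := fun r a b c => by
    rw [← he, h.v_fix]
  have h111 : M 1 1 1 = 0 := by
    have := hfix 1 0 1 1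
    rw [tri_up_011, one_mul] at this
    exact add_eq_left.1 this
  have hh : ∀ b, b * M 1 0 1 + b ^ 2 ^ d * M 0 1 1 = 0 := fun b => by
    have := hfix b 0 0 1
    rw [tri_up_001, h111, mul_zero, add_zero, add_assoc] at this
    exact add_eq_left.1 this
  have h101 : M 1 0 1 = M 0 1 1 := by
    have := hh 1
    rw [one_mul, one_pow, one_mul] at this
    exact CharTwo.add_eq_zero.1 this
  have h011 : M 0 1 1 = 0 := by
    have h1 := hh s
    rw [h101] at h1
    have h2 : M 0 1 1 * (s * (1 + t)) = 0 := by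
      rw [mul_add, mul_one, hst]
      linear_combination h1
    rcases mul_eq_zero.1 h2 with h3 | h3
    · exact h3
    · exfalso
      rcases mul_eq_zero.1 h3 with h3 | h3
      · exact hs0 h3
      · exact ht1 (CharTwo.add_eq_zero.1 h3).symm
  have h101' : M 1 0 1 = 0 := by rw [h101, h011]
  have h2d : 2 ^ d ≠ 0 := by positivity
  have h110 : M 1 1 0 = 0 := by rw [hMT 1 1 0, h101', zero_pow h2d]
  have h010 : M 0 1 0 = M 1 0 0 ^ 2 ^ d := hMT 0 1 0
  have h001 : M 0 0 1 = M 1 0 0 ^ 2 ^ (2 * d) := by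
    rw [hMT 0 0 1, h010, ← pow_mul, ← pow_add, two_mul]
  have h100 : M 1 0 0 = 0 := by
    by_contra hne0
    have h1 := hfix (M 1 0 0)⁻¹ 0 0 0
    rw [tri_up_000, h110, h101', h011, h111, h010, h001] at h1
    have e1 : (M 1 0 0)⁻¹ * M 1 0 0 = 1 := inv_mul_cancel₀ hne0
    have e2 : (M 1 0 0)⁻¹ ^ 2 ^ d * M 1 0 0 ^ 2 ^ d = 1 := by rw [← mul_pow, e1, one_pow]
    have e3 : (M 1 0 0)⁻¹ ^ 2 ^ (2 * d) * M 1 0 0 ^ 2 ^ (2 * d) = 1 := by rw [← mul_pow, e1, one_pow]
    rw [e1, e2, e3] at h1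
    have h2 : (2 : F) = 0 := CharTwo.two_eq_zero
    have h3 : (1 : F) = 0 := by linear_combination h1 - h2
    exact one_ne_zero h3
  -- the torus element fixes `v0`
  have hv : ι (dg t ht0) • v0 = v0 := by
    apply e.injective
    apply Subtype.ext
    funext a b c
    rw [he]
    have hg : (dg t ht0).1 = !![t, 0; 0, t⁻¹] := rfl
    rw [hg]
    have z1 : M 0 0 1 = 0 := by rw [h001, h100, zero_pow (by positivity)]
    have z2 : M 0 1 0 = 0 := by rw [h010, h100, zero_pow h2d]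
    have key : ∀ a b c, tri d !![t, 0; 0, t⁻¹] M a b c = M a b c := by
      intro a b c
      fin_cases a <;> fin_cases b <;> fin_cases c <;>
        simp [tri, Fin.sum_univ_two, z1, z2, h100, h110, h101', h011, h111]
      rw [htt, one_mul]
    exact key a b c
  have hq' := h.up_mem_A ht0 hq hv
  -- quadratic action
  have hE : (fun a b c => if a = 1 ∧ b = 1 ∧ c = 1 then 1 else 0 : Fin 2 → Fin 2 → Fin 2 → F) ∈ Trip F d := by
    rw [mem_Trip]
    intro a b c
    fin_cases a <;> fin_cases b <;> fin_cases c <;> simp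
  obtain ⟨n, hn⟩ := e.surjective ⟨_, hE⟩
  have hn' : (e n : Fin 2 → Fin 2 → Fin 2 → F) = fun a b c => if a = 1 ∧ b = 1 ∧ c = 1 then 1 else 0 := by rw [hn]
  have h1 := h.quad _ hq' _ hq n
  set x := ι (up q) • n - n with hx
  have hxM : ∀ a b c, (e x : Fin 2 → Fin 2 → Fin 2 → F) a b c =
      tri d (up q).1 (e n : Fin 2 → Fin 2 → Fin 2 → F) a b c - (e n : Fin 2 → Fin 2 → Fin 2 → F) a b c := by
    intro a b c
    rw [← he, hx, map_sub]
    rfl
  have x001 : (e x : Fin 2 → Fin 2 → Fin 2 → F) 0 0 1 = q * q ^ 2 ^ d := by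
    rw [hxM, tri_up_001, hn']; simp
  have x011 : (e x : Fin 2 → Fin 2 → Fin 2 → F) 0 1 1 = q := by
    rw [hxM, tri_up_011, hn']; simp
  have x101 : (e x : Fin 2 → Fin 2 → Fin 2 → F) 1 0 1 = q ^ 2 ^ d := by
    rw [hxM, tri_up_101, hn']; simp
  have x111 : (e x : Fin 2 → Fin 2 → Fin 2 → F) 1 1 1 = 0 := by
    rw [hxM, tri_up_111, hn']; simp
  have h2 := congrArg (fun y => (e y : Fin 2 → Fin 2 → Fin 2 → F) 0 0 1) h1
  simp only [he] at h2
  rw [tri_up_001, x001, x011, x101, x111] at h2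
  have h3 : q * q ^ 2 ^ d * (t ^ 2 + (t ^ 2 ^ d) ^ 2) = 0 := by
    have e1 : (t ^ 2 * q) ^ 2 ^ d = (t ^ 2 ^ d) ^ 2 * q ^ 2 ^ d := by
      rw [mul_pow, ← pow_mul, ← pow_mul, mul_comm 2]
    rw [e1] at h2
    linear_combination h2
  have h4' : t ^ 2 + (t ^ 2 ^ d) ^ 2 = 0 := (mul_eq_zero.1 h3).resolve_left
    (mul_ne_zero hq0 (pow_ne_zero _ hq0))
  have h6 : (t + t ^ 2 ^ d) ^ 2 = 0 := by rw [CharTwo.add_sq]; exact h4'
  have h7 := pow_eq_zero_iff (two_ne_zero) |>.1 h6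
  exact hne (CharTwo.add_eq_zero.1 h7).symm

/-- in the natural module `A` induces inner automorphisms -/
theorem le_inn [Finite H] [Finite N] [FaithfulSMul H N] (h : Cfg ι N T A v0) (h4 : 4 ≤ Nat.card F)
    (e : N ≃+ (Fin 2 → F)) (he : ∀ g x, e (ι g • x) = g.1 *ᵥ e x) : A ≤ innH ι := by
  intro a ha
  obtain ⟨q, hq0, hq⟩ := h.exists_up h4
  obtain ⟨α, hα⟩ := exists_aut h.inj h.normal a
  have hup : ∀ (b : F) (n : N), e (ι (up b) • n) = ![e n 0 + b * e n 1, e n 1] := by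
    intro b n
    rw [he]
    have hg : (up b).1 = !![1, b; 0, 1] := rfl
    rw [hg]
    ext i
    fin_cases i <;> simp [Matrix.mulVec, dotProduct, Fin.sum_univ_two]
  -- `a` is trivial on `N/X0` and on `X0`
  have h1 : ∀ n, e (a • n) 1 = e n 1 := by
    intro n
    have h2 := h.quad _ hq _ ha n
    have h3 := congrArg (fun y => e y 0) h2
    simp only [hup] at h3
    change e (a • n - n) 0 + q * e (a • n - n) 1 = e (a • n - n) 0 at h3
    have h5 : e (a • n - n) 1 = 0 := (mul_eq_zero.1 (add_eq_left.1 h3)).resolve_left hq0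
    rw [map_sub] at h5
    exact sub_eq_zero.1 h5
  have h2 : ∀ x : N, e x 1 = 0 → a • x = x := by
    intro x hx
    obtain ⟨n, hn⟩ := e.surjective ![0, e x 0 / q]
    have h3 : ι (up q) • n - n = x := by
      apply e.injective
      rw [map_sub, hup, hn]
      ext i
      fin_cases i
      · simp [mul_div_cancel₀ _ hq0]
      · simp [hx]
    have h5 := h.quad _ ha _ hq n
    rwa [h3] at h5
  have h3 : ∀ b, α (up b) = up b := by
    intro b
    apply h.inj
    rw [hα]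
    apply FaithfulSMul.eq_of_smul_eq_smul (α := N)
    intro n
    rw [mul_smul, mul_smul]
    set n' := a⁻¹ • n with hn'
    have e1 : a • n' = n := by rw [hn', smul_inv_smul]
    have e2 : e n' 1 = e n 1 := by rw [← e1, h1]
    have e3 : ι (up b) • n' = n' + (ι (up b) • n - n) := by
      apply e.injective
      rw [map_add, map_sub, hup, hup, e2]
      ext i
      fin_cases i
      · change e n' 0 + b * e n 1 = e n' 0 + (e n 0 + b * e n 1 - e n 0)
        ring
      · change e n 1 = e n' 1 + (e n 1 - e n 1)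
        rw [e2]; ring
    have e4 : a • (ι (up b) • n - n) = ι (up b) • n - n := by
      apply h2
      rw [map_sub, hup]
      change e n 1 - e n 1 = 0
      rw [sub_self]
    rw [e3, smul_add, e1, e4, add_sub_cancel]
  obtain ⟨r, hr⟩ := up_of_fix h3
  exact mem_innH_of hα ⟨_, hr⟩

/-- **(A1)**: the module is natural and `A ≤ ι(U)`. -/
theorem natural [Finite H] [Finite N] [FaithfulSMul H N] (h : Cfg ι N T A v0) (h4 : 4 ≤ Nat.card F) :
    (∃ e : N ≃+ (Fin 2 → F), ∀ g x, e (ι g • x) = g.1 *ᵥ e x) ∧ ∀ a ∈ A, ∃ q, a = ι (up q) := by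
  obtain ⟨m, -, hm⟩ := FiniteField.card F 2
  have hmn := h.mn_top h4
  let ρ : SL2 →* AddMonoid.End N :=
    { toFun := fun g => DistribSMul.toAddMonoidHom N (ι g)
      map_one' := by
        ext y
        change ι 1 • y = y
        rw [map_one, one_smul]
      map_mul' := fun g g' => by
        ext y
        change ι (g * g') • y = ι g • ι g' • y
        rw [map_mul, mul_smul] }
  have hρ : IsIrr ρ := by
    refine ⟨⟨v0, 0, h.v_ne⟩, fun W hW => ?_⟩
    exact hmn.min W (fun g x hx => hW g x hx) le_top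
  have hc : Nat.card N < Fintype.card F ^ 4 := by
    rw [← Nat.card_eq_fintype_card]
    exact lt_four h4 (h.card_N h4)
  have key : ∃ e : N ≃+ (Fin 2 → F), ∀ g x, e (ι g • x) = g.1 *ᵥ e x := by
    rcases km_lt hm h.two hρ h.exists_nt hc with ⟨e, he⟩ | ⟨d, hd, hmd, -, e, he⟩ | ⟨d, hd, hmd, -, e, he⟩
    · exact ⟨e, he⟩
    · exact (h.not_herm h4 hd (by rw [hm, hmd]) e he).elim
    · exact (h.not_trip h4 hd (by rw [hm, hmd]) e he).elim
  obtain ⟨e, he⟩ := key
  exact ⟨⟨e, he⟩, fun a ha => h.mem_up h4 ha (h.le_inn h4 e he ha)⟩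

end Cfg

end Cfsg.Agent.Omega.NO3S.SLTwo

end

section


/-!
# NO-3S, `q = 2`, `n = 1`, a component `SL₂(F)`: `C_M(L) = 0` if `|A| ≥ 4`

`Cfg ι N T A v0`, `p : M → N` surjective equivariant, `[M, A] ∩ ker p = 0`, every proper submodule of `M` in `ker p`.

* `Cfg.half` : `|F| ≤ 2|A|`;
* `Cfg.lift_inj` : `|A| ≥ 4` implies `p` injective.
-/

set_option autoImplicit false
set_option linter.unusedSectionVars false

namespace Cfsg.Agent.Omega.NO3S.SLTwo

open Matrix Subgroup Cfsg.Agent.Lib.SL2Mat Cfsg.Agent.Lib.AutSL2 Cfsg.Agent.Lib.AutSL2Out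
open Cfsg.Agent.Omega.KM (IsIrr)

variable {F : Type*} [Field F]

local notation "SL2" => Matrix.SpecialLinearGroup (Fin 2) F

/-- `{a m - m}` -/
def im (M : Type*) [AddCommGroup M] {H : Type*} [Group H] [DistribMulAction H M] (a : H) : AddSubgroup M :=
  (DistribSMul.toAddMonoidHom M a - AddMonoidHom.id M).range

theorem mem_im {M : Type*} [AddCommGroup M] {H : Type*} [Group H] [DistribMulAction H M] {a : H} {x : M} :
    x ∈ im M a ↔ ∃ m : M, a • m - m = x := Iff.rfl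

theorem smul_im {M : Type*} [AddCommGroup M] {H : Type*} [Group H] [DistribMulAction H M] {a d : H} {x : M}
    (hx : x ∈ im M a) : d • x ∈ im M (d * a * d⁻¹) := by
  obtain ⟨m, rfl⟩ := mem_im.1 hx
  refine mem_im.2 ⟨d • m, ?_⟩
  rw [smul_sub, ← mul_smul, ← mul_smul]
  congr 2
  group

namespace Cfg

variable {H : Type*} {N : Type*} [Group H] [AddCommGroup N] [DistribMulAction H N]
  {ι : Matrix.SpecialLinearGroup (Fin 2) F →* H} {T A : Subgroup H} {v0 : N} [CharP F 2] [Fintype F]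

/-- the elements `b` with `ι (up b) ∈ A` -/
def bb (ι : Matrix.SpecialLinearGroup (Fin 2) F →* H) (A : Subgroup H) : AddSubgroup F where
  carrier := {b | ι (up b) ∈ A}
  add_mem' {x y} hx hy := by
    change ι (up (x + y)) ∈ A
    rw [← up_mul, map_mul]
    exact A.mul_mem hx hy
  zero_mem' := by
    change ι (up 0) ∈ A
    rw [up_zero, map_one]
    exact A.one_mem
  neg_mem' {x} hx := by
    change ι (up (-x)) ∈ A
    rw [← up_inv, map_inv]
    exact A.inv_mem hx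

theorem mem_bb {b : F} : b ∈ bb ι A ↔ ι (up b) ∈ A := Iff.rfl

theorem card_bb [Finite H] [Finite N] [FaithfulSMul H N] (h : Cfg ι N T A v0) (h4 : 4 ≤ Nat.card F) :
    Nat.card (bb ι A) = Nat.card A := by
  have hn := (h.natural h4).2
  refine Nat.card_congr (Equiv.ofBijective (fun b : bb ι A => (⟨ι (up b), b.2⟩ : A)) ⟨fun b c hbc => ?_, fun a => ?_⟩)
  · have := congrArg Subtype.val hbc
    exact Subtype.ext (up_inj (h.inj this))
  · obtain ⟨q, hq⟩ := hn a a.2
    exact ⟨⟨q, mem_bb.2 (hq ▸ a.2)⟩, Subtype.ext hq.symm⟩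

theorem half [Finite H] [Finite N] [FaithfulSMul H N] (h : Cfg ι N T A v0) (h4 : 4 ≤ Nat.card F) :
    Nat.card F ≤ 2 * Nat.card A := by
  obtain ⟨⟨e, he⟩, hA⟩ := h.natural h4
  obtain ⟨q, hq0, hq⟩ := h.exists_up h4
  have hne : ι (up q) ≠ 1 := fun e1 => hq0 (up_inj ((h.inj (e1.trans (map_one ι).symm)).trans up_zero.symm))
  have h1 := h.small _ hq hne
  let f : N →+ F := (Pi.evalAddMonoidHom (fun _ : Fin 2 => F) 1).comp e.toAddMonoidHom
  have hf : ∀ n, f n = e n 1 := fun n => rfl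
  have hk : f.ker = fixN N (ι (up q)) := by
    ext n
    rw [AddMonoidHom.mem_ker, mem_fixN, hf]
    have h2 : e (ι (up q) • n) = ![e n 0 + q * e n 1, e n 1] := by
      rw [he]
      have hg : (up q).1 = !![1, q; 0, 1] := rfl
      rw [hg]
      ext i
      fin_cases i <;> simp [Matrix.mulVec, dotProduct, Fin.sum_univ_two]
    constructor
    · intro h3
      apply e.injective
      rw [h2, h3]
      ext i
      fin_cases i
      · simp
      · simp [h3]
    · intro h3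
      rw [h3] at h2
      have h4 := congrFun h2 0
      simp only [Matrix.cons_val_zero] at h4
      have h5 : q * e n 1 = 0 := by
        have := h4.symm
        rwa [add_eq_left] at this
      exact (mul_eq_zero.1 h5).resolve_left hq0
  have hs : Function.Surjective f := fun x => ⟨e.symm ![0, x], by rw [hf, e.apply_symm_apply]; rfl⟩
  rw [← hk, AddSubgroup.index_ker, AddMonoidHom.range_eq_top.2 hs] at h1
  have h6 : Nat.card (⊤ : AddSubgroup F) = Nat.card F := Nat.card_congr AddSubgroup.topEquiv.toEquiv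
  rwa [h6] at h1

theorem card_N_sq [Finite H] [Finite N] [FaithfulSMul H N] (h : Cfg ι N T A v0) (h4 : 4 ≤ Nat.card F) :
    Nat.card N = Nat.card F * Nat.card F := by
  obtain ⟨⟨e, -⟩, -⟩ := h.natural h4
  rw [Nat.card_congr e.toEquiv, Nat.card_fun, Nat.card_eq_fintype_card (α := Fin 2), Fintype.card_fin, pow_two]

/-- **(P4)** -/
theorem lift_inj [Finite H] [Finite N] [FaithfulSMul H N] (h : Cfg ι N T A v0) (h4 : 4 ≤ Nat.card F)
    (hA4 : 4 ≤ Nat.card A) {M : Type*} [AddCommGroup M] [DistribMulAction H M] [Finite M] (p : M →+ N)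
    (hp : Function.Surjective p) (hpe : ∀ (x : H) (m : M), p (x • m) = x • p m) (J : AddSubgroup M)
    (hJ : ∀ a ∈ A, ∀ m : M, a • m - m ∈ J) (hJC : ∀ m ∈ J, p m = 0 → m = 0)
    (hsub : ∀ X : AddSubgroup M, (∀ x : H, ∀ m ∈ X, x • m ∈ X) → (∀ m ∈ X, p m = 0) ∨ X = ⊤) :
    Function.Injective p := by
  obtain ⟨⟨e, he⟩, hA⟩ := h.natural h4
  obtain ⟨q0, hq0, hqA⟩ := h.exists_up h4
  have hup : ∀ (b : F) (n : N), e (ι (up b) • n) = ![e n 0 + b * e n 1, e n 1] := by
    intro b n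
    rw [he]
    have hg : (up b).1 = !![1, b; 0, 1] := rfl
    rw [hg]
    ext i
    fin_cases i <;> simp [Matrix.mulVec, dotProduct, Fin.sum_univ_two]
  have hup' : ∀ (b : F) (m : M), e (p (ι (up b) • m - m)) = ![b * e (p m) 1, 0] := by
    intro b m
    rw [map_sub, hpe, map_sub, hup]
    ext i
    fin_cases i <;> simp
  have hinj : ∀ m ∈ J, ∀ m' ∈ J, e (p m) = e (p m') → m = m' := by
    intro m hm m' hm' hmm
    have := hJC _ (J.sub_mem hm hm') (by rw [map_sub, e.injective hmm, sub_self])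
    exact sub_eq_zero.1 this
  -- `[M, a] = [M, a']`
  have him : ∀ b b' : F, b' ≠ 0 → ι (up b) ∈ A → ι (up b') ∈ A → im M (ι (up b)) ≤ im M (ι (up b')) := by
    intro b b' hb' hbA hbA' x hx
    obtain ⟨m, rfl⟩ := mem_im.1 hx
    obtain ⟨m', hm'⟩ := hp (e.symm ![0, b * e (p m) 1 / b'])
    refine mem_im.2 ⟨m', hinj _ (hJ _ hbA' _) _ (hJ _ hbA _) ?_⟩
    rw [hup', hup', hm', e.apply_symm_apply]
    congr 1
    change b' * (b * e (p m) 1 / b') = _
    field_simp
  -- the torus normalises `[M, A]`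
  have hBt : ∀ t : F, t ≠ 0 → ∃ b, b ≠ 0 ∧ ι (up b) ∈ A ∧ ι (up (t ^ 2 * b)) ∈ A := by
    intro t ht
    by_contra hcon
    push Not at hcon
    have h1 : Function.Injective fun x : bb ι A × bb ι A => (x.1 : F) - t ^ 2 * (x.2 : F) := by
      rintro ⟨⟨b, hb⟩, ⟨c, hc⟩⟩ ⟨⟨b', hb'⟩, ⟨c', hc'⟩⟩ hbc
      simp only at hbc
      have h2 : b - b' = t ^ 2 * (c - c') := by linear_combination hbc
      have h3 : c - c' = 0 := by
        by_contra hne
        refine hcon _ hne (mem_bb.1 ((bb ι A).sub_mem hc hc')) ?_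
        rw [← h2]
        exact mem_bb.1 ((bb ι A).sub_mem hb hb')
      rw [h3, mul_zero] at h2
      simp only [Prod.mk.injEq, Subtype.mk.injEq]
      exact ⟨sub_eq_zero.1 h2, sub_eq_zero.1 h3⟩
    have h2 := Nat.card_le_card_of_injective _ h1
    rw [Nat.card_prod, h.card_bb h4] at h2
    have h3 := h.half h4
    nlinarith
  set Z0 : AddSubgroup M := im M (ι (up q0)) with hZ0
  have hZJ : Z0 ≤ J := fun x hx => by
    obtain ⟨m, rfl⟩ := mem_im.1 hx
    exact hJ _ hqA m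
  have hdZ : ∀ (t : F) (ht : t ≠ 0), ∀ x ∈ Z0, ι (dg t ht) • x ∈ Z0 := by
    intro t ht x hx
    obtain ⟨b, hb0, hbA, hbA'⟩ := hBt t ht
    have h1 := smul_im (d := ι (dg t ht)) (him _ _ hb0 hqA hbA hx)
    rw [← map_mul, ← map_inv, ← map_mul, dg_up, mul_inv_cancel_right] at h1
    exact him _ _ hq0 hbA' hqA h1
  have hU : ∀ (b : F) (m : M), ι (up b) • m - m ∈ Z0 := by
    intro b m
    by_cases hb : b = 0
    · rw [hb, up_zero, map_one, one_smul, sub_self]
      exact Z0.zero_mem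
    · obtain ⟨t, ht⟩ : ∃ t : F, t ^ 2 = b / q0 := by
        have hs : Function.Surjective (fun x : F => x ^ 2) := Finite.surjective_of_injective (frobenius_inj F 2)
        exact hs _
      have ht0 : t ≠ 0 := by
        rintro rfl
        have : b / q0 = 0 := by rw [← ht]; simp
        exact (div_ne_zero hb hq0) this
      have h1 : up b = dg t ht0 * up q0 * (dg t ht0)⁻¹ := by
        rw [dg_up, mul_inv_cancel_right, ht, div_mul_cancel₀ b hq0]
      have h2 : ι (up b) • m - m = ι (dg t ht0) • (ι (up q0) • ((ι (dg t ht0))⁻¹ • m) - (ι (dg t ht0))⁻¹ • m) := by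
        rw [smul_sub, smul_inv_smul, h1, map_mul, map_mul, map_inv, mul_smul, mul_smul]
      rw [h2]
      exact hdZ t ht0 _ (mem_im.2 ⟨_, rfl⟩)
  set w := ι (wm (1 : F) one_ne_zero) with hw
  set Z1 : AddSubgroup M := tr w⁻¹ Z0 with hZ1
  have hlo : ∀ (b : F) (m : M), ι (lo b) • m - m ∈ Z1 := by
    intro b m
    rw [hZ1, mem_tr, inv_inv, smul_sub, ← mul_smul, hw, ← map_mul, wm_lo, map_mul, mul_smul]
    exact hU _ _
  have hX : ∀ (g : SL2) (m : M), ι g • m - m ∈ Z0 ⊔ Z1 := by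
    intro g m
    obtain ⟨a, b, c, d, rfl⟩ := exists_up_lo g
    have e1 : ι (up a * lo b * up c * lo d) • m - m =
        (ι (up a) • (ι (lo b) • ι (up c) • ι (lo d) • m) - ι (lo b) • ι (up c) • ι (lo d) • m) +
        (ι (lo b) • (ι (up c) • ι (lo d) • m) - ι (up c) • ι (lo d) • m) +
        (ι (up c) • (ι (lo d) • m) - ι (lo d) • m) + (ι (lo d) • m - m) := by
      simp only [map_mul, mul_smul]
      abel
    rw [e1]
    exact add_mem (add_mem (add_mem (AddSubgroup.mem_sup_left (hU _ _)) (AddSubgroup.mem_sup_right (hlo _ _)))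
      (AddSubgroup.mem_sup_left (hU _ _))) (AddSubgroup.mem_sup_right (hlo _ _))
  have htop : Z0 ⊔ Z1 = ⊤ := by
    set Y : AddSubgroup M := AddSubgroup.closure {x | ∃ (g : SL2) (m : M), x = ι g • m - m} with hY
    have hYX : Y ≤ Z0 ⊔ Z1 := by
      rw [hY, AddSubgroup.closure_le]
      rintro x ⟨g, m, rfl⟩
      exact hX g m
    rcases hsub Y (fun x m hm => by
      induction hm using AddSubgroup.closure_induction with
      | mem m hm =>
        obtain ⟨g, m, rfl⟩ := hm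
        obtain ⟨g', hg'⟩ := h.normal.conj_mem (ι g) ⟨g, rfl⟩ x
        refine AddSubgroup.subset_closure ⟨g', x • m, ?_⟩
        rw [hg', smul_sub, ← mul_smul, ← mul_smul]
        congr 2
        group
      | zero => rw [smul_zero]; exact Y.zero_mem
      | add a b _ _ ha hb => rw [smul_add]; exact Y.add_mem ha hb
      | neg a _ ha => rw [smul_neg]; exact Y.neg_mem ha) with h1 | h1
    · exfalso
      obtain ⟨m, hm⟩ := hp (e.symm ![0, 1])
      have h2 := h1 _ (AddSubgroup.subset_closure ⟨up q0, m, rfl⟩)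
      have h3 := hup' q0 m
      rw [h2, map_zero, hm, e.apply_symm_apply] at h3
      have h5 := congrFun h3 0
      simp at h5
      exact hq0 h5.symm
    · exact top_le_iff.1 (h1 ▸ hYX)
  have hcZ : Nat.card Z0 ≤ Nat.card F := by
    refine Nat.card_le_card_of_injective (fun x : Z0 => e (p x) 0) fun x y hxy => ?_
    have h1 : ∀ x ∈ Z0, e (p x) 1 = 0 := by
      intro x hx
      obtain ⟨m, rfl⟩ := mem_im.1 hx
      rw [hup']
      rfl
    refine Subtype.ext (hinj _ (hZJ x.2) _ (hZJ y.2) ?_)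
    ext i
    fin_cases i
    · exact hxy
    · change e (p x) 1 = e (p y) 1
      rw [h1 _ x.2, h1 _ y.2]
  have hcM : Nat.card M ≤ Nat.card F * Nat.card F := by
    have h1 : Function.Surjective fun x : Z0 × Z1 => (x.1 : M) + (x.2 : M) := by
      intro m
      have hm : m ∈ Z0 ⊔ Z1 := by rw [htop]; trivial
      obtain ⟨y, hy, z, hz, rfl⟩ := AddSubgroup.mem_sup.1 hm
      exact ⟨(⟨y, hy⟩, ⟨z, hz⟩), rfl⟩
    have h2 := Nat.card_le_card_of_surjective _ h1
    rw [Nat.card_prod] at h2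
    have h3 : Nat.card Z1 = Nat.card Z0 := card_tr _ _
    rw [h3] at h2
    exact h2.trans (Nat.mul_le_mul hcZ hcZ)
  rw [← h.card_N_sq h4] at hcM
  exact ((Nat.bijective_iff_surjective_and_card p).2 ⟨hp, le_antisymm hcM (Nat.card_le_card_of_surjective p hp)⟩).1

end Cfg

end Cfsg.Agent.Omega.NO3S.SLTwo

end
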